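import Groth.Agent.LocalDimBC.Scheme
import Groth.Agent.DimFormula.ResTrdeg
import Groth.Agent.CMFlat.Scheme
import Groth.Agent.CMFlat.Comp

/-!
# The fibre dimension of a composition
-/

set_option autoImplicit false
universe u

open CategoryTheory CategoryTheory.Limits AlgebraicGeometry
open Groth.Agent Groth.Agent.Unibranch Groth.Agent.DimFormula

set_option backward.isDefEq.respectTransparency false

namespace Groth.Agent.LocalDimBC

variable {X Y : Scheme.{u}} {K : Type u} [Field K]

theorem localDim_le_add (f : X ⟶ Y) (q : Y ⟶ Spec (CommRingCat.of K)) [LocallyOfFiniteType f]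
    [LocallyOfFiniteType q] (x : X) :
    FlatMor.localDim X x ≤ FlatMor.fibreDimAt f x + FlatMor.localDim Y (f x) := by
  haveI : IsLocallyNoetherian Y := LocallyOfFiniteType.isLocallyNoetherian q
  haveI : IsLocallyNoetherian X := LocallyOfFiniteType.isLocallyNoetherian f
  obtain ⟨F, hF⟩ := exists_fibreDimAt_eq f x
  obtain ⟨G, hG⟩ := exists_fibreDimAt_eq q (f x)
  rw [← CMChart.fibreDimAt_eq_localDim q (f x), ← CMChart.fibreDimAt_eq_localDim (f ≫ q) x, hF, hG]
  obtain ⟨b, δ, -, hD, -, -, -, m, -, hmx, -, -, ⟨c, hc, hc'⟩⟩ := exists_fibre_dims (f ≫ q) x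
  rw [hD]
  obtain ⟨U, hxU, hU⟩ := (fibreDimAt_le_iff f x).mp hF.le
  obtain ⟨V, hyV, hV⟩ := (fibreDimAt_le_iff q (f x)).mp hG.le
  have hmc : ∀ i, m ⤳ c i := fun i => specializes_iff_mem_closure.mpr (hc i).1
  have hY : ChainsLE q (closure {f m}) (q (f m)) G :=
    chainsLE_of_specializes q (hmx.map f.continuous) hyV (hV.mono Set.inter_subset_left)
  have hgen : GenLE (f m) (f (c (Fin.last _))) G := fun n a h1 h2 _ =>
    hY n a (fun i => ⟨(h2.trans (Unibranch.specializes_of_chain a h1 i)).mem_closure,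
      Subsingleton.elim (α := PrimeSpectrum K) _ _⟩) h1
  have h := dimension_inequality f (hmc (Fin.last _)) (a := b + δ) (d := 0)
    ⟨c, hc', hmc 0, rfl⟩ hgen ⟨fun _ => c (Fin.last _), fun _ => ⟨subset_closure rfl, rfl⟩, fun i => i.elim0⟩
    (chainsLE_of_specializes f hmx hxU (hU.mono Set.inter_subset_left))
  exact_mod_cast (show b + δ ≤ F + G by omega)

theorem localDim_eq_add (f : X ⟶ Y) (q : Y ⟶ Spec (CommRingCat.of K)) [LocallyOfFiniteType f]
    [LocallyOfFiniteType q] (x : X) (hflat : (f.stalkMap x).hom.Flat) :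
    FlatMor.localDim X x = FlatMor.fibreDimAt f x + FlatMor.localDim Y (f x) := by
  haveI : IsLocallyNoetherian Y := LocallyOfFiniteType.isLocallyNoetherian q
  haveI : IsLocallyNoetherian X := LocallyOfFiniteType.isLocallyNoetherian f
  obtain ⟨bY, δY, hbY, hGY, hδY, -⟩ := CMChart.localDim_field_eq q (f x)
  obtain ⟨bX, δX, hbX, hGX, hδX, -⟩ := CMChart.localDim_field_eq (f ≫ q) x
  obtain ⟨bF, δF, hbF, hF, hle, hhas, -⟩ := exists_fibre_dims f x
  obtain ⟨δ', hδ', hle', hhas'⟩ := exists_trdeg_eq f x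
  obtain rfl : δ' = δF := le_antisymm (hhas'.le hle) (hhas.le hle')
  have h1 : bX = bY + bF := by
    letI := (f.stalkMap x).hom.toAlgebra
    haveI : Module.Flat (Y.presheaf.stalk (f x)) (X.presheaf.stalk x) := hflat
    haveI : IsLocalHom (algebraMap (Y.presheaf.stalk (f x)) (X.presheaf.stalk x)) :=
      inferInstanceAs (IsLocalHom (f.stalkMap x).hom)
    obtain ⟨e⟩ := CMFlat.nonempty_fiberStalk_equiv f x
    obtain ⟨c', e', hc, he, hce⟩ := CMFlat.dims (R := Y.presheaf.stalk (f x)) (S := X.presheaf.stalk x)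
    obtain rfl : c' = bY := by exact_mod_cast hc.symm.trans hbY
    obtain rfl : e' = bF := by exact_mod_cast he.symm.trans ((ringKrullDim_eq_of_ringEquiv e).trans hbF)
    exact_mod_cast hbX.symm.trans hce
  have h2 : δX = δY + δ' := by
    letI := (q.residueFieldMap (f x)).hom.toAlgebra
    letI := (f.residueFieldMap x).hom.toAlgebra
    letI : Algebra ((Spec (CommRingCat.of K)).residueField (q (f x))) (X.residueField x) :=
      ((f ≫ q).residueFieldMap x).hom.toAlgebra
    haveI : IsScalarTower ((Spec (CommRingCat.of K)).residueField (q (f x))) (Y.residueField (f x))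
        (X.residueField x) := IsScalarTower.of_algebraMap_eq fun a =>
      congr($(Scheme.residueFieldMap_comp f q x) a)
    have h := trdeg_add_eq ((Spec (CommRingCat.of K)).residueField (q (f x))) (Y.residueField (f x))
      (A := X.residueField x)
    rw [hδY, hδ'] at h
    have h' : ((δX : ℕ) : Cardinal.{u}) = (δY : Cardinal.{u}) + (δ' : Cardinal.{u}) := hδX.symm.trans h.symm
    exact_mod_cast h'
  rw [hGX, hF, hGY]
  exact_mod_cast (show bX + δX = bF + δ' + (bY + δY) by omega)

theorem fibreDimAt_comp {X Y S : Scheme.{u}} (f : X ⟶ Y) (g : Y ⟶ S) [LocallyOfFiniteType f]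
    [LocallyOfFiniteType g] (x : X) :
    FlatMor.fibreDimAt (f ≫ g) x ≤ FlatMor.fibreDimAt f x + FlatMor.fibreDimAt g (f x) ∧
      ((f.stalkMap x).hom.Flat →
        FlatMor.fibreDimAt (f ≫ g) x = FlatMor.fibreDimAt f x + FlatMor.fibreDimAt g (f x)) := by
  have sq := ConsEngine.isPullback_fiberMap f g (g (f x))
  haveI : LocallyOfFiniteType (MoreMor.fiberMap f g (g (f x))) :=
    MorphismProperty.of_isPullback (P := @LocallyOfFiniteType) sq ‹_›
  haveI : LocallyOfFiniteType (g.fiberToSpecResidueField (g (f x))) := MorphismProperty.pullback_snd _ _ ‹_›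
  let z := (f ≫ g).asFiber x
  have hz : (f ≫ g).fiberι (g (f x)) z = x := (f ≫ g).fiberι_asFiber x
  have hy : MoreMor.fiberMap f g (g (f x)) z = g.asFiber (f x) := by
    refine (g.fiberι (g (f x))).isEmbedding.injective ?_
    have h1 : g.fiberι (g (f x)) (MoreMor.fiberMap f g (g (f x)) z) = f ((f ≫ g).fiberι (g (f x)) z) :=
      congrArg (fun k => k z) (ConsEngine.fiberMap_fiberι f g (g (f x)))
    exact h1.trans ((congrArg f hz).trans (g.fiberι_asFiber (f x)).symm)
  have hF : FlatMor.fibreDimAt (MoreMor.fiberMap f g (g (f x))) z = FlatMor.fibreDimAt f x := by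
    rw [fibreDimAt_of_isPullback f _ _ _ sq z, hz]
  have hG : FlatMor.localDim (g.fiber (g (f x))) (MoreMor.fiberMap f g (g (f x)) z) = FlatMor.fibreDimAt g (f x) := by
    rw [hy]; rfl
  refine ⟨?_, fun hfl => ?_⟩
  · exact (localDim_le_add (K := S.residueField (g (f x))) _ (g.fiberToSpecResidueField (g (f x))) z).trans_eq
      (congrArg₂ (· + ·) hF hG)
  · refine (localDim_eq_add (K := S.residueField (g (f x))) _ (g.fiberToSpecResidueField (g (f x))) z ?_).trans
      (congrArg₂ (· + ·) hF hG)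
    exact CMFlat.flatAt_baseChange sq (by rw [hz]; exact hfl)

end Groth.Agent.LocalDimBC
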