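import Groth.Agent.LocalDimBC.Scheme
import Groth.Agent.CMChart.PolyField
import Groth.Agent.DimFormula.Jump
import Groth.Agent.UnivInjMor.MonoUnram
import Mathlib.RingTheory.RingHom.StandardSmooth
import Mathlib.AlgebraicGeometry.Morphisms.Smooth

/-!
# Fibre dimensions along open immersions and of smooth morphisms
-/

set_option autoImplicit false
universe u

open CategoryTheory CategoryTheory.Limits AlgebraicGeometry TensorProduct

set_option backward.isDefEq.respectTransparency false

namespace Groth.Agent.LocalDimBC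

open Unibranch in
/-- Fibre dimensions do not change on an open subscheme of the source. -/
theorem fibreDimAt_openImmersion_comp {U X Y : Scheme.{u}} (j : U ⟶ X) [IsOpenImmersion j] (f : X ⟶ Y)
    (z : U) : FlatMor.fibreDimAt (j ≫ f) z = FlatMor.fibreDimAt f (j z) := by
  refine le_antisymm (Unibranch.le_of_forall_natCast_le fun n hn => (natCast_le_fibreDimAt_iff f _).mpr fun O hO => ?_)
    (Unibranch.le_of_forall_natCast_le fun n hn => (natCast_le_fibreDimAt_iff (j ≫ f) z).mpr fun O hO => ?_)
  · obtain ⟨c, hc, hc'⟩ := (natCast_le_fibreDimAt_iff (j ≫ f) z).mp hn (j ⁻¹ᵁ O) hO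
    exact ⟨fun i => j (c i), fun i => ⟨(hc i).1, (hc i).2⟩,
      fun i => ⟨(hc' i).1.map j.continuous, fun e => (hc' i).2 (j.injective e)⟩⟩
  · obtain ⟨c, hc, hc'⟩ := (natCast_le_fibreDimAt_iff f _).mp hn (j ''ᵁ O) ⟨z, hO, rfl⟩
    choose b hbO hb using fun i => (hc i).1
    refine ⟨b, fun i => ⟨hbO i, ?_⟩, fun i => ⟨?_, fun e => (hc' i).2 ?_⟩⟩
    · show f (j (b i)) = f (j z)
      exact (congrArg f (hb i)).trans (hc i).2
    · refine j.isEmbedding.isInducing.specializes_iff.mp ?_
      exact ((specializes_of_eq (hb i.castSucc)).trans (hc' i).1).trans (specializes_of_eq (hb i.succ).symm)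
    · exact (hb i.castSucc).symm.trans ((congrArg j e).trans (hb i.succ))

/-- Fibre dimensions do not change on an open subscheme of the target. -/
theorem fibreDimAt_comp_openImmersion {X Y Z : Scheme.{u}} (f : X ⟶ Y) (i : Y ⟶ Z) [IsOpenImmersion i]
    (x : X) : FlatMor.fibreDimAt f x = FlatMor.fibreDimAt (f ≫ i) x :=
  (DimFormula.fibreDimAt_of_embedding (f ≫ i) f (𝟙 X) i Topology.IsEmbedding.id i.injective
    (fun _ => rfl) x (fun a _ => ⟨a, rfl⟩))

theorem localDim_of_isStandardSmooth (n : ℕ) {K A : Type u} [Field K] [CommRing A] [Algebra K A]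
    [Algebra.IsStandardSmoothOfRelativeDimension n K A] (p : PrimeSpectrum A) :
    FlatMor.localDim (PrimeSpectrum A) p = (n : WithBot ℕ∞) := by
  obtain ⟨g, hg⟩ := Algebra.IsStandardSmoothOfRelativeDimension.exists_etale_mvPolynomial n K A
  have : Etale (Spec.map (CommRingCat.ofHom g.toRingHom)) := (HasRingHomProperty.Spec_iff (P := @Etale)).mpr hg
  have : LocallyQuasiFinite (Spec.map (CommRingCat.ofHom g.toRingHom)) := UnivInjMor.lqf_of_unramified _
  refine (CMChart.localDim_eq_of_lqf (Spec.map (CommRingCat.ofHom g.toRingHom)) p).trans ?_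
  exact CMChart.localDim_mvPolynomial n _

theorem fibreDimAt_Spec_of_localDim_fibre {R A : Type u} [CommRing R] [CommRing A] [Algebra R A]
    [Algebra.FiniteType R A] (x : Spec (CommRingCat.of A)) {d : WithBot ℕ∞}
    (h : ∀ z : PrimeSpectrum ((PrimeSpectrum.comap (algebraMap R A) x).asIdeal.Fiber A),
      FlatMor.localDim (PrimeSpectrum ((PrimeSpectrum.comap (algebraMap R A) x).asIdeal.Fiber A)) z = d) :
    FlatMor.fibreDimAt (Spec.map (CommRingCat.ofHom (algebraMap R A))) x = d := by
  let f := Spec.map (CommRingCat.ofHom (algebraMap R A))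
  have : LocallyOfFiniteType f :=
    (HasRingHomProperty.Spec_iff (P := @LocallyOfFiniteType)).mpr (RingHom.finiteType_algebraMap.mpr inferInstance)
  let p : PrimeSpectrum R := PrimeSpectrum.comap (algebraMap R A) x
  let κ := p.asIdeal.ResidueField
  have sq := (isPullback_SpecMap_of_isPushout _ _ _ _ (CommRingCat.isPushout_tensorProduct R κ A)).flip
  have hp : Spec.map (CommRingCat.ofHom (algebraMap R κ)) (IsLocalRing.closedPoint κ) = f x := by
    refine PrimeSpectrum.ext ?_
    show (IsLocalRing.maximalIdeal κ).comap (algebraMap R κ) = p.asIdeal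
    rw [IsLocalRing.maximalIdeal_eq_bot, ← RingHom.ker_eq_comap_bot, Ideal.ker_algebraMap_residueField]
  obtain ⟨x', hx', -⟩ := Scheme.exists_preimage_of_isPullback sq x (IsLocalRing.closedPoint κ) hp.symm
  rw [← hx', ← fibreDimAt_of_isPullback f _ _ _ sq x']
  exact (CMChart.fibreDimAt_eq_localDim _ x').trans (h x')

theorem fibreDimAt_Spec_of_isStandardSmooth (n : ℕ) {R A : Type u} [CommRing R] [CommRing A] [Algebra R A]
    [Algebra.IsStandardSmoothOfRelativeDimension n R A] (x : Spec (CommRingCat.of A)) :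
    FlatMor.fibreDimAt (Spec.map (CommRingCat.ofHom (algebraMap R A))) x = (n : WithBot ℕ∞) := by
  have : Algebra.FiniteType R A := by
    have := Algebra.IsStandardSmoothOfRelativeDimension.isStandardSmooth n (R := R) (S := A)
    infer_instance
  exact fibreDimAt_Spec_of_localDim_fibre x fun z =>
    localDim_of_isStandardSmooth n (K := (PrimeSpectrum.comap (algebraMap R A) x).asIdeal.ResidueField) z

theorem fibreDimAt_of_smoothOfRelativeDimension (n : ℕ) {X Y : Scheme.{u}} (f : X ⟶ Y)
    [SmoothOfRelativeDimension n f] (x : X) : FlatMor.fibreDimAt f x = (n : WithBot ℕ∞) := by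
  obtain ⟨V, hV, U, hU, hxU, e, hf⟩ :=
    SmoothOfRelativeDimension.exists_isStandardSmoothOfRelativeDimension (n := n) (f := f) x
  obtain ⟨z, rfl⟩ : x ∈ Set.range hU.fromSpec := hU.range_fromSpec.ge hxU
  algebraize [(f.appLE V U e).hom]
  rw [← fibreDimAt_openImmersion_comp hU.fromSpec f z, ← IsAffineOpen.SpecMap_appLE_fromSpec f hV hU e,
    ← fibreDimAt_comp_openImmersion]
  exact fibreDimAt_Spec_of_isStandardSmooth n (R := Γ(Y, V)) (A := Γ(X, U)) z

end Groth.Agent.LocalDimBC
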