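import Groth.Agent.LocalDimBC.Ring
import Groth.Agent.CMChart.Locus
import Groth.Agent.ConsEngine.Fiber
import Groth.Agent.DimFormula.Dims
import Groth.Prelude.Def_Cyc

/-!
# The local dimension of fibres is invariant under base change
-/

set_option autoImplicit false
universe u

open CategoryTheory CategoryTheory.Limits AlgebraicGeometry TensorProduct

set_option backward.isDefEq.respectTransparency false

namespace Groth.Agent.LocalDimBC

theorem localDim_Spec_of_isPullback {K L A : Type u} [Field K] [Field L] [Algebra K L] [CommRing A] [Algebra K A]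
    [Algebra.FiniteType K A] {P : Scheme.{u}} (a : P ⟶ Spec (CommRingCat.of A)) (b : P ⟶ Spec (CommRingCat.of L))
    (sq : IsPullback a b (Spec.map (CommRingCat.ofHom (algebraMap K A))) (Spec.map (CommRingCat.ofHom (algebraMap K L))))
    (z : P) : FlatMor.localDim P z = FlatMor.localDim (Spec (CommRingCat.of A)) (a z) := by
  have sq₀ := (isPullback_SpecMap_of_isPushout _ _ _ _ (CommRingCat.isPushout_tensorProduct K L A)).flip
  let i : P ≅ Spec (CommRingCat.of (L ⊗[K] A)) := sq.isoIsPullback _ _ sq₀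
  have hi : i.hom ≫ Spec.map (CommRingCat.ofHom Algebra.TensorProduct.includeRight.toRingHom) = a :=
    sq.isoIsPullback_hom_fst _ _ sq₀
  rw [CMChart.localDim_eq_of_lqf i.hom z, ← hi, Scheme.Hom.comp_apply]
  exact localDim_tensor (i.hom z) _ rfl

/-- The local dimension of a scheme locally of finite type over a field is invariant under extension of the field. -/
theorem localDim_of_isPullback {K L : Type u} [Field K] [Field L] {T T' : Scheme.{u}}
    (q : T ⟶ Spec (CommRingCat.of K)) [LocallyOfFiniteType q] (h : Spec (CommRingCat.of L) ⟶ Spec (CommRingCat.of K))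
    (e : T' ⟶ T) (q' : T' ⟶ Spec (CommRingCat.of L)) (H : IsPullback e q' q h) (z : T') :
    FlatMor.localDim T' z = FlatMor.localDim T (e z) := by
  obtain ⟨U, hU, hzU, -⟩ := exists_isAffineOpen_mem_and_subset (U := (⊤ : T.Opens)) (x := e z) trivial
  have sq : IsPullback (e ∣_ U) ((e ⁻¹ᵁ U).ι ≫ q') (U.ι ≫ q) h :=
    (isPullback_morphismRestrict e U).paste_vert H
  have : LocallyOfFiniteType (hU.fromSpec ≫ q) := inferInstance
  obtain ⟨ψ, hψ⟩ := Spec.map_surjective (hU.fromSpec ≫ q)
  obtain ⟨φ, rfl⟩ := Spec.map_surjective h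
  let : Algebra K Γ(T, U) := ψ.hom.toAlgebra
  let : Algebra K L := φ.hom.toAlgebra
  have : Algebra.FiniteType K Γ(T, U) :=
    (HasRingHomProperty.Spec_iff (P := @LocallyOfFiniteType) (φ := ψ)).1 (hψ ▸ inferInstance)
  have sq' : IsPullback ((e ∣_ U) ≫ hU.isoSpec.hom) ((e ⁻¹ᵁ U).ι ≫ q')
      (Spec.map (CommRingCat.ofHom (algebraMap K Γ(T, U)))) (Spec.map (CommRingCat.ofHom (algebraMap K L))) := by
    refine sq.of_iso (Iso.refl _) hU.isoSpec (Iso.refl _) (Iso.refl _) (by simp) (by simp) ?_ ?_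
    · show (U.ι ≫ q) ≫ 𝟙 _ = hU.isoSpec.hom ≫ Spec.map ψ
      rw [hψ, ← hU.isoSpec_inv_ι]
      simp
    · simp
      rfl
  let z' : (e ⁻¹ᵁ U).toScheme := ⟨z, hzU⟩
  have h1 := localDim_Spec_of_isPullback _ _ sq' z'
  have h2 := CMChart.localDim_eq_of_lqf (e ⁻¹ᵁ U).ι z'
  have h3 := CMChart.localDim_eq_of_lqf hU.fromSpec (((e ∣_ U) ≫ hU.isoSpec.hom) z')
  have h4 : hU.fromSpec (((e ∣_ U) ≫ hU.isoSpec.hom) z') = e z := by
    rw [← Scheme.Hom.comp_apply, Category.assoc, ← hU.isoSpec_inv_ι, Iso.hom_inv_id_assoc, morphismRestrict_ι,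
      Scheme.Hom.comp_apply]
    rfl
  rw [h4] at h3
  exact h2.symm.trans (h1.trans h3)

theorem fibreDimAt_of_isPullback {X S X' S' : Scheme.{u}} (f : X ⟶ S) [LocallyOfFiniteType f] (g : S' ⟶ S)
    (g' : X' ⟶ X) (f' : X' ⟶ S') (hsq : IsPullback g' f' f g) (x' : X') :
    FlatMor.fibreDimAt f' x' = FlatMor.fibreDimAt f (g' x') := by
  have H := ConsEngine.isPullback_fiberBC hsq (f' x')
  have : LocallyOfFiniteType (f.fiberToSpecResidueField (g (f' x'))) := MorphismProperty.pullback_snd _ _ ‹_›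
  refine (localDim_of_isPullback (K := S.residueField (g (f' x'))) (L := S'.residueField (f' x'))
    _ _ _ _ H (f'.asFiber x')).trans ?_
  have e1 : f.fiberι _ (ConsEngine.fiberBC hsq (f' x') (f'.asFiber x')) = g' x' := by
    rw [← Scheme.Hom.comp_apply, ConsEngine.fiberBC_fiberι, Scheme.Hom.comp_apply, f'.fiberι_asFiber]
  generalize ConsEngine.fiberBC hsq (f' x') (f'.asFiber x') = w at e1 ⊢
  generalize hy : g (f' x') = y at w e1 ⊢
  obtain rfl : f (g' x') = y := by rw [← hy, ← Scheme.Hom.comp_apply, hsq.w, Scheme.Hom.comp_apply]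
  rw [(f.fiberι (f (g' x'))).isEmbedding.injective (e1.trans (f.fiberι_asFiber _).symm)]
  rfl

open DimFormula Unibranch in
theorem topologicalKrullDim_closure_eq {K : Type u} [Field K] {T : Scheme.{u}}
    (q : T ⟶ Spec (CommRingCat.of K)) [LocallyOfFiniteType q] (z : T) (hz : IsMaxPt z) :
    topologicalKrullDim (closure ({z} : Set T)) = FlatMor.localDim T z := by
  obtain ⟨b, δ, -, hD, hle, hhas, -, m, -, hmz, -, ⟨c, hc, hc0, hcl⟩, -⟩ := exists_fibre_dims q z
  obtain rfl := hz m hmz
  obtain rfl : b = 0 := by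
    by_contra hb
    obtain ⟨j, rfl⟩ := Nat.exists_eq_add_one_of_ne_zero hb
    have e1 : ∀ i, c i = m := fun i => hz _ (hcl ▸ specializes_last hc i)
    exact (hc 0).2 ((e1 _).trans (e1 _).symm)
  rw [← CMChart.fibreDimAt_eq_localDim q m, hD, zero_add]
  haveI : QuasiSober (closure ({m} : Set T)) := isClosed_closure.isClosedEmbedding_subtypeVal.quasiSober
  have key : ∀ k : ℕ, (k : WithBot ℕ∞) ≤ topologicalKrullDim (closure ({m} : Set T)) ↔
      HasChain q (closure {m}) (q m) k := fun k =>
    Unibranch.natCast_le_topologicalKrullDim_iff q Topology.IsEmbedding.subtypeVal (by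
      rw [Subtype.range_coe, Set.inter_eq_left.mpr]
      exact fun w _ => Subsingleton.elim (α := PrimeSpectrum K) _ _)
  refine le_antisymm (Unibranch.le_of_forall_natCast_le fun n hn => ?_) ((key δ).mpr hhas)
  obtain ⟨c', hc', hc''⟩ := (key n).mp hn
  exact_mod_cast hle n c' hc' hc''

open DimFormula Unibranch in
theorem hasRelDim_of_fibreDimAt {X Y : Scheme.{u}} (f : X ⟶ Y) [LocallyOfFiniteType f] (d : ℕ)
    (h : ∀ x, FlatMor.fibreDimAt f x = d) : Cyc.HasRelDim f d := by
  intro y C hC
  obtain ⟨z, hz⟩ := QuasiSober.sober hC.1 (isClosed_of_mem_irreducibleComponents C hC)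
  have hmax : IsMaxPt z := by
    intro w hw
    have hsub : C ⊆ closure {w} := by
      rw [← hz.def]
      exact closure_minimal (Set.singleton_subset_iff.mpr hw.mem_closure) isClosed_closure
    have hwC : w ∈ C := hC.2 isIrreducible_singleton.closure hsub (subset_closure rfl)
    exact (Specializes.antisymm hw (hz.specializes hwC)).eq
  have : LocallyOfFiniteType (f.fiberToSpecResidueField y) := MorphismProperty.pullback_snd _ _ ‹_›
  rw [← hz.def, topologicalKrullDim_closure_eq (K := Y.residueField y) (f.fiberToSpecResidueField y) z hmax]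
  have hy : f (f.fiberι y z) = y := by
    rw [← Scheme.Hom.comp_apply]
    have := congrArg (fun k => k z) (pullback.condition (f := f) (g := Y.fromSpecResidueField y))
    exact this.trans (Y.fromSpecResidueField_apply y _)
  obtain ⟨x, hx⟩ : ∃ x, x = f.fiberι y z := ⟨_, rfl⟩
  rw [← hx] at hy
  subst hy
  rw [← h x, (f.fiberι (f x)).isEmbedding.injective (hx.symm.trans (f.fiberι_asFiber x).symm)]
  rfl

end Groth.Agent.LocalDimBC
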