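import Groth.Agent.LocalDimBC.Smooth
import Mathlib.RingTheory.Ideal.KrullsHeightTheorem

/-!
# Fibre dimensions of relative global complete intersections
-/

set_option autoImplicit false
universe u

open TensorProduct

namespace Groth.Agent.LocalDimBC

/-- Components of the zero set of `c` equations in affine `n`-space have dimension at least `n - c`. -/
theorem le_ringKrullDim_quotient_of_span {K A : Type u} [Field K] [CommRing A] [IsDomain A] [Algebra K A]
    [Algebra.FiniteType K A] {n c : ℕ} (hA : ringKrullDim A = n) (s : Fin c → A) (Q : Ideal A)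
    (hQ : Q ∈ (Ideal.span (Set.range s)).minimalPrimes) :
    ((n - c : ℕ) : WithBot ℕ∞) ≤ ringKrullDim (A ⧸ Q) := by
  classical
  have : IsNoetherianRing A := Algebra.FiniteType.isNoetherianRing K A
  have := hQ.1.1
  have hh : Q.height ≤ (c : ℕ∞) := by
    have h1 := Ideal.height_le_card_of_mem_minimalPrimes_span_finset (p := Q) (s := Finset.univ.image s)
      (by rwa [Finset.coe_image, Finset.coe_univ, Set.image_univ])
    refine h1.trans ?_
    exact_mod_cast Finset.card_image_le.trans (by simp)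
  obtain ⟨t, ht, ht'⟩ := DimFormula.exists_trdeg_eq_ringKrullDim K (A ⧸ Q)
  have h := DimFormula.height_add_ringKrullDim_quotient K (⟨Q, inferInstance⟩ : PrimeSpectrum A)
  obtain ⟨a, ha⟩ := ENat.ne_top_iff_exists.mp (ne_top_of_le_ne_top (ENat.natCast_ne_top c) hh)
  rw [← ha] at hh
  change (Q.height : WithBot ℕ∞) + ringKrullDim (A ⧸ Q) = _ at h
  rw [← ha, ht', hA] at h
  rw [ht']
  have h' : a + t = n := by exact_mod_cast h
  have hc : a ≤ c := by exact_mod_cast hh
  exact_mod_cast (show n - c ≤ t by omega)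

theorem localDim_of_surjective_span {K A B : Type u} [Field K] [CommRing A] [IsDomain A] [Algebra K A]
    [Algebra.FiniteType K A] [CommRing B] [Algebra K B] [Algebra.FiniteType K B] {n c : ℕ}
    (hA : ringKrullDim A = n) (φ : A →+* B) (hφ : Function.Surjective φ) (s : Fin c → A)
    (hker : RingHom.ker φ = Ideal.span (Set.range s)) (hB : ringKrullDim B = ((n - c : ℕ) : WithBot ℕ∞))
    (z : PrimeSpectrum B) : FlatMor.localDim (PrimeSpectrum B) z = ((n - c : ℕ) : WithBot ℕ∞) := by
  have hcomp : ∀ Q ∈ minimalPrimes B, ((n - c : ℕ) : WithBot ℕ∞) ≤ ringKrullDim (B ⧸ Q) := by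
    intro Q hQ
    have := hQ.1.1
    have hQ' : Q.comap φ ∈ (Ideal.span (Set.range s)).minimalPrimes := by
      rw [← hker]
      refine ⟨⟨inferInstance, Ideal.comap_mono bot_le⟩, fun J hJ hJQ => ?_⟩
      have := hJ.1
      have : (J.map φ).IsPrime := Ideal.map_isPrime_of_surjective hφ hJ.2
      have h1 : J.map φ ≤ Q := Ideal.map_le_iff_le_comap.mpr hJQ
      have h2 := Ideal.comap_mono (f := φ) (hQ.2 ⟨this, bot_le⟩ h1)
      rwa [Ideal.comap_map_of_surjective φ hφ, ← RingHom.ker_eq_comap_bot, sup_eq_left.mpr hJ.2] at h2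
    refine (le_ringKrullDim_quotient_of_span (K := K) hA _ _ hQ').trans (le_of_eq ?_)
    exact ringKrullDim_eq_of_ringEquiv (RingEquiv.ofBijective (Ideal.quotientMap Q φ le_rfl)
      ⟨Ideal.quotientMap_injective, Ideal.quotientMap_surjective hφ⟩)
  obtain ⟨⟨P, hP, hPz, hle⟩, hge⟩ := localDim_spec (k := K) z
  exact le_antisymm (hle.trans ((ringKrullDim_le_of_surjective _ Ideal.Quotient.mk_surjective).trans hB.le))
    ((hcomp P hP).trans (hge P hP hPz))

theorem surjective_map_mk {R κ P : Type u} [CommRing R] [CommRing κ] [Algebra R κ] [CommRing P] [Algebra R P]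
    (I : Ideal P) :
    Function.Surjective (Algebra.TensorProduct.map (AlgHom.id R κ) (Ideal.Quotient.mkₐ R I)) :=
  LinearMap.lTensor_surjective κ (g := (Ideal.Quotient.mkₐ R I).toLinearMap) Ideal.Quotient.mk_surjective

theorem ker_map_mk {R κ P : Type u} [CommRing R] [CommRing κ] [Algebra R κ] [CommRing P] [Algebra R P]
    {c : ℕ} (F : Fin c → P) :
    RingHom.ker (Algebra.TensorProduct.map (AlgHom.id R κ) (Ideal.Quotient.mkₐ R (Ideal.span (Set.range F)))).toRingHom =
      Ideal.span (Set.range fun i => (1 : κ) ⊗ₜ[R] F i) := by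
  refine (Algebra.TensorProduct.lTensor_ker (A := κ) (Ideal.Quotient.mkₐ R (Ideal.span (Set.range F)))
    Ideal.Quotient.mk_surjective).trans ?_
  rw [show RingHom.ker (Ideal.Quotient.mkₐ R (Ideal.span (Set.range F))) = Ideal.span (Set.range F) from Ideal.mk_ker,
    Ideal.map_span, ← Set.range_comp]
  rfl

/-- The local dimension of a fibre of a relative global complete intersection. -/
theorem localDim_fibre_relGCI {R κ : Type u} [CommRing R] [Field κ] [Algebra R κ] {n c : ℕ}
    (F : Fin c → MvPolynomial (Fin n) R)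
    (hdim : ringKrullDim (κ ⊗[R] (MvPolynomial (Fin n) R ⧸ Ideal.span (Set.range F))) = ((n - c : ℕ) : WithBot ℕ∞))
    (z : PrimeSpectrum (κ ⊗[R] (MvPolynomial (Fin n) R ⧸ Ideal.span (Set.range F)))) :
    FlatMor.localDim (PrimeSpectrum (κ ⊗[R] (MvPolynomial (Fin n) R ⧸ Ideal.span (Set.range F)))) z =
      ((n - c : ℕ) : WithBot ℕ∞) := by
  let e : κ ⊗[R] MvPolynomial (Fin n) R ≃ₐ[κ] MvPolynomial (Fin n) κ := MvPolynomial.algebraTensorAlgEquiv R κ
  have : IsDomain (κ ⊗[R] MvPolynomial (Fin n) R) := MulEquiv.isDomain (MvPolynomial (Fin n) κ) e.toMulEquiv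
  refine localDim_of_surjective_span (K := κ) ?_ _ (surjective_map_mk _) _ (ker_map_mk F) hdim z
  rw [ringKrullDim_eq_of_ringEquiv e.toRingEquiv, MvPolynomial.ringKrullDim_of_isNoetherianRing,
    ringKrullDim_eq_zero_of_field, Nat.card_eq_fintype_card, Fintype.card_fin, zero_add]

end Groth.Agent.LocalDimBC
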