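import Groth.Agent.CMChart.AffineField
import Groth.Agent.DimFormula.Field
import Groth.Agent.DimField.Ring
import Mathlib.RingTheory.Ideal.MinimalPrime.Localization
import Mathlib.LinearAlgebra.LinearIndependent.Lemmas
import Mathlib.LinearAlgebra.Finsupp.LinearCombination

/-!
# The local dimension of an algebra of finite type is invariant under extension of the ground field
-/

set_option autoImplicit false
universe u

open TensorProduct

namespace Groth.Agent.LocalDimBC

/-- A finite torsion free module over a domain embeds in a free module of finite rank. -/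
theorem exists_injective_to_pi {R M : Type u} [CommRing R] [IsDomain R] [AddCommGroup M] [Module R M]
    [Module.Finite R M] (htf : ∀ (a : R) (x : M), a ≠ 0 → a • x = 0 → x = 0) :
    ∃ (ι : Type u) (f : M →ₗ[R] (ι → R)), Function.Injective f := by
  classical
  obtain ⟨s, hs⟩ := (Module.finite_def.mp ‹Module.Finite R M› : (⊤ : Submodule R M).FG)
  obtain ⟨I, hI, hmax⟩ := exists_maximal_linearIndepOn R (fun i : s => (i : M))
  let N := Submodule.span R (Set.range fun i : I => ((i : s) : M))
  have hN : ∀ i : s, ∃ a : R, a ≠ 0 ∧ a • (i : M) ∈ N := by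
    intro i
    by_cases hi : i ∈ I
    · exact ⟨1, one_ne_zero, by rw [one_smul]; exact Submodule.subset_span ⟨⟨i, hi⟩, rfl⟩⟩
    · obtain ⟨a, ha, ha'⟩ := hmax i hi
      refine ⟨a, ha, ?_⟩
      rwa [Set.image_eq_range] at ha'
  choose a ha ha' using hN
  let d := ∏ i, a i
  have hd : d ≠ 0 := Finset.prod_ne_zero_iff.mpr fun i _ => ha i
  have hdN : ∀ x : M, d • x ∈ N := by
    have : (⊤ : Submodule R M) ≤ N.comap (LinearMap.lsmul R M d) := by
      rw [← hs, Submodule.span_le]
      intro x hx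
      show d • x ∈ N
      obtain ⟨c, hc⟩ : a ⟨x, hx⟩ ∣ d := Finset.dvd_prod_of_mem a (Finset.mem_univ _)
      rw [hc, mul_comm, mul_smul]
      exact N.smul_mem c (ha' ⟨x, hx⟩)
    exact fun x => this trivial
  let b : Module.Basis I R N := Module.Basis.span hI
  let F : M →ₗ[R] N := (LinearMap.lsmul R M d).codRestrict N hdN
  have hF : Function.Injective F := (injective_iff_map_eq_zero F).2 fun x hx =>
    htf d x hd (congrArg Subtype.val hx)
  exact ⟨↥I, (Finsupp.lcoeFun.comp b.repr.toLinearMap).comp F,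
    (DFunLike.coe_injective.comp b.repr.injective).comp hF⟩

theorem finite_map_tensor (K L : Type u) [Field K] [Field L] [Algebra K L] {P A : Type u} [CommRing P]
    [Algebra K P] [CommRing A] [Algebra K A] (g : P →ₐ[K] A) (hgf : g.Finite) :
    (Algebra.TensorProduct.map (AlgHom.id L L) g : L ⊗[K] P →ₐ[L] L ⊗[K] A).Finite := by
  let m : L ⊗[K] P →ₐ[L] L ⊗[K] A := Algebra.TensorProduct.map (AlgHom.id L L) g
  letI := g.toRingHom.toAlgebra
  letI := m.toRingHom.toAlgebra
  obtain ⟨S, hS⟩ := (hgf : Module.Finite P A).fg_top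
  classical
  refine ⟨⟨S.image fun a => (1 : L) ⊗ₜ[K] a, ?_⟩⟩
  refine eq_top_iff.mpr fun z _ => ?_
  induction z using TensorProduct.induction_on with
  | zero => exact Submodule.zero_mem _
  | add x y hx hy => exact Submodule.add_mem _ (hx trivial) (hy trivial)
  | tmul l a =>
    have ha : a ∈ Submodule.span P (S : Set A) := hS ▸ trivial
    induction ha using Submodule.span_induction generalizing l with
    | mem a ha =>
      have : l ⊗ₜ[K] a = (l ⊗ₜ[K] (1 : P)) • ((1 : L) ⊗ₜ[K] a) := by
        show _ = m (l ⊗ₜ[K] 1) * ((1 : L) ⊗ₜ[K] a)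
        simp [m]
      rw [this]
      exact Submodule.smul_mem _ _ (Submodule.subset_span (Finset.mem_coe.mpr (Finset.mem_image_of_mem _ ha)))
    | zero => rw [TensorProduct.tmul_zero]; exact Submodule.zero_mem _
    | add x y _ _ hx hy => rw [TensorProduct.tmul_add]; exact Submodule.add_mem _ (hx l trivial) (hy l trivial)
    | smul p x _ hx =>
      have : l ⊗ₜ[K] (p • x) = (((1 : L) ⊗ₜ[K] p)) • (l ⊗ₜ[K] x) := by
        show l ⊗ₜ[K] (g p * x) = m ((1 : L) ⊗ₜ[K] p) * (l ⊗ₜ[K] x)
        simp [m]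
      rw [this]
      exact Submodule.smul_mem _ _ (hx l trivial)

/-- All components of the base change of an affine domain have its dimension. -/
theorem ringKrullDim_quotient_of_minimal_tensor (K L C : Type u) [Field K] [Field L] [Algebra K L] [CommRing C]
    [IsDomain C] [Algebra K C] [Algebra.FiniteType K C] (P : Ideal (L ⊗[K] C))
    (hP : P ∈ minimalPrimes (L ⊗[K] C)) :
    ringKrullDim ((L ⊗[K] C) ⧸ P) = ringKrullDim C := by
  classical
  obtain ⟨s, g, hgi, hgf⟩ := exists_finite_inj_algHom_of_fg K C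
  rw [Unibranch.ringKrullDim_eq_of_finite_inj g hgi hgf]
  let R := MvPolynomial (Fin s) K
  let m : L ⊗[K] R →ₐ[L] L ⊗[K] C := Algebra.TensorProduct.map (AlgHom.id L L) g
  let e : MvPolynomial (Fin s) L ≃ₐ[L] L ⊗[K] R := (MvPolynomial.algebraTensorAlgEquiv (σ := Fin s) K L).symm
  haveI : IsDomain (L ⊗[K] R) := MulEquiv.isDomain (MvPolynomial (Fin s) L) e.symm.toMulEquiv
  obtain ⟨ι, f, hf⟩ : ∃ (ι : Type u) (f : C →ₗ[K] (ι → R)), Function.Injective f ∧
      ∀ r c, f (g r * c) = r • f c := by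
    letI := g.toRingHom.toAlgebra
    haveI : Module.Finite R C := hgf
    haveI : IsScalarTower K R C := IsScalarTower.of_algebraMap_eq fun a => (g.commutes a).symm
    obtain ⟨ι, f, hf⟩ := exists_injective_to_pi (R := R) (M := C) fun a x ha hx => by
      rcases mul_eq_zero.mp (show g a * x = 0 from hx) with h | h
      · exact absurd ((map_eq_zero_iff g hgi).mp h) ha
      · exact h
    exact ⟨ι, f.restrictScalars K, hf, fun r c => f.map_smul r c⟩
  have hreg : ∀ (a : L ⊗[K] R) (z : L ⊗[K] C), a ≠ 0 → m a * z = 0 → z = 0 := by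
    intro a z ha h0
    let Φ : ι → (L ⊗[K] C →ₗ[K] L ⊗[K] R) := fun i => ((LinearMap.proj i).comp f).lTensor L
    have hΦ : ∀ i a z, Φ i (m a * z) = a * Φ i z := by
      intro i a z
      induction a using TensorProduct.induction_on with
      | zero => simp
      | add x y hx hy => rw [map_add, add_mul, map_add, hx, hy, add_mul]
      | tmul l r =>
        induction z using TensorProduct.induction_on with
        | zero => simp
        | add x y hx hy => rw [mul_add, map_add, hx, hy, map_add, mul_add]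
        | tmul l' c => simp [Φ, m, hf.2, smul_eq_mul]
    have hz : ∀ i, Φ i z = 0 := fun i => by
      have := hΦ i a z
      rw [h0, map_zero] at this
      exact (mul_eq_zero.mp this.symm).resolve_left ha
    -- the components detect zero
    let B := Module.Basis.ofVectorSpace K L
    refine (TensorProduct.equivFinsuppOfBasisLeft B (N := C)).injective ?_
    rw [map_zero]
    ext j
    refine hf.1 (funext fun i => ?_)
    have := congrArg (fun w => TensorProduct.equivFinsuppOfBasisLeft B w j) (hz i)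
    simp only [map_zero, Finsupp.zero_apply] at this
    rw [Finsupp.zero_apply, map_zero, Pi.zero_apply, ← this]
    clear this hz h0
    induction z using TensorProduct.induction_on with
    | zero => simp
    | add x y hx hy => simp [hx, hy]
    | tmul l c => simp [Φ]
  haveI : P.IsPrime := hP.1.1
  let φ : MvPolynomial (Fin s) L →ₐ[L] (L ⊗[K] C) ⧸ P := (Ideal.Quotient.mkₐ L P).comp (m.comp e.toAlgHom)
  refine Unibranch.ringKrullDim_eq_of_finite_inj φ ((injective_iff_map_eq_zero φ).2 fun p hp => ?_) ?_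
  · by_contra hne
    have hmem : m (e p) ∈ P := Ideal.Quotient.eq_zero_iff_mem.mp hp
    refine Set.disjoint_left.mp (Ideal.disjoint_nonZeroDivisors_of_mem_minimalPrimes hP) hmem ?_
    refine mem_nonZeroDivisors_iff_right.mpr fun z hz => hreg (e p) z ?_ (by rw [mul_comm]; exact hz)
    exact (map_ne_zero_iff e e.injective).mpr hne
  · exact (RingHom.Finite.of_surjective _ Ideal.Quotient.mk_surjective).comp
      ((finite_map_tensor K L g hgf).comp (RingHom.Finite.of_surjective _ e.surjective))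

/-- The local dimension of an algebra of finite type over a field is the largest dimension of a component
through the point. -/
theorem localDim_spec {k S : Type u} [Field k] [CommRing S] [Algebra k S] [Algebra.FiniteType k S]
    (p : PrimeSpectrum S) :
    (∃ P ∈ minimalPrimes S, P ≤ p.asIdeal ∧ FlatMor.localDim (PrimeSpectrum S) p ≤ ringKrullDim (S ⧸ P)) ∧
      ∀ P ∈ minimalPrimes S, P ≤ p.asIdeal → ringKrullDim (S ⧸ P) ≤ FlatMor.localDim (PrimeSpectrum S) p := by
  haveI : IsNoetherianRing S := Algebra.FiniteType.isNoetherianRing k S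
  have hquot : ∀ q : PrimeSpectrum S, ∀ δ : ℕ, Algebra.trdeg k q.asIdeal.ResidueField = (δ : Cardinal.{u}) →
      ringKrullDim (S ⧸ q.asIdeal) = δ := by
    intro q δ hδ
    obtain ⟨s, hs, hs'⟩ := DimFormula.exists_trdeg_eq_ringKrullDim k (S ⧸ q.asIdeal)
    rw [hs']
    haveI : Algebra.IsAlgebraic (S ⧸ q.asIdeal) q.asIdeal.ResidueField :=
      IsLocalization.isAlgebraic _ (nonZeroDivisors (S ⧸ q.asIdeal))
    have h := trdeg_add_eq k (S ⧸ q.asIdeal) (A := q.asIdeal.ResidueField)
    rw [trdeg_eq_zero (R := S ⧸ q.asIdeal), add_zero, hs, hδ] at h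
    exact congrArg (fun n : ℕ => (n : WithBot ℕ∞)) (Nat.cast_inj.mp h)
  refine ⟨?_, fun P hP hle => ?_⟩
  · obtain ⟨b, δ, hb, hD, hδ⟩ := CMChart.localDim_primeSpectrum (k := k) p
    have hh : (b : ℕ∞) ≤ Order.height p := by
      rw [← PrimeSpectrum.height_eq_orderHeight, ← WithBot.coe_le_coe,
        ← IsLocalization.AtPrime.ringKrullDim_eq_height p.asIdeal (Localization.AtPrime p.asIdeal)]
      exact hb.ge
    obtain ⟨l, hl, hlen⟩ := Order.exists_series_of_le_height p hh
    obtain ⟨P, hP, hPl⟩ := Ideal.exists_minimalPrimes_le (show (⊥ : Ideal S) ≤ l.head.asIdeal from bot_le)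
    haveI := hP.1.1
    have hPp : P ≤ p.asIdeal := hPl.trans (hl ▸ l.head_le_last)
    refine ⟨P, hP, hPp, ?_⟩
    let π := Ideal.Quotient.mk P
    have hker : ∀ i, RingHom.ker π ≤ (l i).asIdeal := fun i => by
      rw [Ideal.mk_ker]; exact hPl.trans (l.head_le i)
    let lift : Fin (l.length + 1) → PrimeSpectrum (S ⧸ P) := fun i =>
      ⟨(l i).asIdeal.map π, Ideal.map_isPrime_of_surjective Ideal.Quotient.mk_surjective (hker i)⟩
    have hcm : ∀ i, (lift i).asIdeal.comap π = (l i).asIdeal := fun i => by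
      show ((l i).asIdeal.map π).comap π = _
      rw [Ideal.comap_map_of_surjective π Ideal.Quotient.mk_surjective, ← RingHom.ker_eq_comap_bot,
        sup_eq_left.mpr (hker i)]
    let l' : LTSeries (PrimeSpectrum (S ⧸ P)) := LTSeries.mk l.length lift fun i j hij => by
      have h := l.strictMono hij
      refine lt_of_le_of_ne (Ideal.map_mono h.le) fun he => h.ne (PrimeSpectrum.ext ?_)
      rw [← hcm i, ← hcm j, congrArg PrimeSpectrum.asIdeal he]
    let p' := l'.last
    have hp' : p'.asIdeal.comap π = p.asIdeal := (hcm _).trans (congrArg PrimeSpectrum.asIdeal hl)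
    have h1 : (b : ℕ∞) ≤ p'.asIdeal.height := by
      rw [PrimeSpectrum.height_eq_orderHeight, ← hlen]
      exact Order.length_le_height_last (p := l')
    have h2 : ringKrullDim ((S ⧸ P) ⧸ p'.asIdeal) = (δ : WithBot ℕ∞) := by
      rw [← hquot p δ hδ]
      refine ringKrullDim_eq_of_ringEquiv ?_
      exact ((Ideal.quotEquivOfEq (show p'.asIdeal = p.asIdeal.map π by
        rw [← hp', Ideal.map_comap_of_surjective π Ideal.Quotient.mk_surjective])).trans
        (DoubleQuot.quotQuotEquivQuotSup P p.asIdeal)).trans (Ideal.quotEquivOfEq (sup_eq_right.mpr hPp))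
    rw [hD, ← DimFormula.height_add_ringKrullDim_quotient k p', h2, Nat.cast_add]
    exact add_le_add (WithBot.coe_le_coe.mpr h1) le_rfl
  · haveI := hP.1.1
    let x : PrimeSpectrum S := ⟨P, inferInstance⟩
    obtain ⟨b, δ, hb, hD, hδ⟩ := CMChart.localDim_primeSpectrum (k := k) x
    rw [show ringKrullDim (S ⧸ P) = δ from hquot x δ hδ]
    refine le_trans ?_ (le_iInf fun U =>
      iInf_le (fun W : {W : TopologicalSpace.Opens (PrimeSpectrum S) // x ∈ W} =>
          topologicalKrullDim (W.1 : Set (PrimeSpectrum S)))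
        ⟨U.1, ((PrimeSpectrum.le_iff_specializes x p).mp hle).mem_open U.1.2 U.2⟩)
    show _ ≤ FlatMor.localDim (PrimeSpectrum S) x
    rw [hD]
    exact_mod_cast Nat.le_add_left δ b

/-- The dimension of the components over a prime of the base. -/
theorem ringKrullDim_quotient_over (K L S : Type u) [Field K] [Field L] [Algebra K L] [CommRing S] [Algebra K S]
    [Algebra.FiniteType K S] (P : Ideal S) [P.IsPrime] (Q : Ideal (L ⊗[K] S))
    (hQ : Q ∈ (P.map (Algebra.TensorProduct.includeRight.toRingHom : S →+* L ⊗[K] S)).minimalPrimes) :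
    ringKrullDim ((L ⊗[K] S) ⧸ Q) = ringKrullDim (S ⧸ P) := by
  let ψ : L ⊗[K] S →ₐ[K] L ⊗[K] (S ⧸ P) :=
    Algebra.TensorProduct.map (AlgHom.id K L) (Ideal.Quotient.mkₐ K P)
  let ψ' : L ⊗[K] S →+* L ⊗[K] (S ⧸ P) := ψ.toRingHom
  have hψs : Function.Surjective ψ' := by
    intro z
    induction z using TensorProduct.induction_on with
    | zero => exact ⟨0, map_zero _⟩
    | tmul l a =>
      obtain ⟨b, rfl⟩ := Ideal.Quotient.mk_surjective a
      exact ⟨l ⊗ₜ b, Algebra.TensorProduct.map_tmul _ _ _ _⟩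
    | add x y hx hy =>
      obtain ⟨a, rfl⟩ := hx
      obtain ⟨b, rfl⟩ := hy
      exact ⟨a + b, map_add _ _ _⟩
  have hψk : RingHom.ker ψ' = P.map (Algebra.TensorProduct.includeRight.toRingHom : S →+* L ⊗[K] S) := by
    refine (Algebra.TensorProduct.lTensor_ker (A := L) (Ideal.Quotient.mkₐ K P) Ideal.Quotient.mk_surjective).trans ?_
    rw [show RingHom.ker (Ideal.Quotient.mkₐ K P) = P from Ideal.mk_ker]
    rfl
  have hQle : RingHom.ker ψ' ≤ Q := hψk ▸ hQ.1.2
  haveI := hQ.1.1
  haveI : (Q.map ψ').IsPrime := Ideal.map_isPrime_of_surjective hψs hQle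
  have hback : (Q.map ψ').comap ψ' = Q := by
    rw [Ideal.comap_map_of_surjective ψ' hψs, ← RingHom.ker_eq_comap_bot, sup_eq_left.mpr hQle]
  have hmin : Q.map ψ' ∈ minimalPrimes (L ⊗[K] (S ⧸ P)) := by
    refine ⟨⟨inferInstance, bot_le⟩, fun J hJ hJQ => ?_⟩
    haveI := hJ.1
    have h1 : RingHom.ker ψ' ≤ J.comap ψ' := Ideal.comap_mono bot_le
    have h2 : J.comap ψ' ≤ Q := hback ▸ Ideal.comap_mono hJQ
    have h := hQ.2 ⟨inferInstance, hψk ▸ h1⟩ h2
    rw [← Ideal.map_comap_of_surjective ψ' hψs J]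
    exact Ideal.map_mono h
  rw [← ringKrullDim_quotient_of_minimal_tensor K L (S ⧸ P) (Q.map ψ') hmin]
  have hk : Q = RingHom.ker ((Ideal.Quotient.mk (Q.map ψ')).comp ψ') := by
    rw [← RingHom.comap_ker, Ideal.mk_ker, hback]
  exact ringKrullDim_eq_of_ringEquiv ((Ideal.quotEquivOfEq hk).trans
    (RingHom.quotientKerEquivOfSurjective (Ideal.Quotient.mk_surjective.comp hψs)))

/-- The local dimension does not change under extension of the ground field. -/
theorem localDim_tensor {K L S : Type u} [Field K] [Field L] [Algebra K L] [CommRing S] [Algebra K S]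
    [Algebra.FiniteType K S] (q' : PrimeSpectrum (L ⊗[K] S)) (q : PrimeSpectrum S)
    (hq : q'.asIdeal.comap (Algebra.TensorProduct.includeRight.toRingHom : S →+* L ⊗[K] S) = q.asIdeal) :
    FlatMor.localDim (PrimeSpectrum (L ⊗[K] S)) q' = FlatMor.localDim (PrimeSpectrum S) q := by
  let ι : S →+* L ⊗[K] S := Algebra.TensorProduct.includeRight.toRingHom
  haveI : Algebra.FiniteType L (L ⊗[K] S) := inferInstance
  obtain ⟨⟨Q, hQ, hQq, hQdim⟩, hup'⟩ := localDim_spec (k := L) q'
  obtain ⟨⟨P, hP, hPq, hPdim⟩, hup⟩ := localDim_spec (k := K) q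
  have hι : ι.Flat := by
    rw [show ι = (Algebra.TensorProduct.includeRight : S →ₐ[K] L ⊗[K] S).toRingHom from rfl]
    letI : Algebra S (L ⊗[K] S) := Algebra.TensorProduct.rightAlgebra
    exact RingHom.flat_algebraMap_iff.mpr (Module.Flat.of_linearEquiv (Algebra.TensorProduct.commRight K S L).symm.toLinearEquiv)
  refine le_antisymm ?_ ?_
  · refine hQdim.trans ?_
    have hmin : Q.comap ι ∈ minimalPrimes S := by
      letI := ι.toAlgebra
      haveI : Module.Flat S (L ⊗[K] S) := hι
      haveI := hQ.1.1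
      refine ⟨⟨inferInstance, bot_le⟩, fun J hJ hJQ => ?_⟩
      haveI := hJ.1
      by_contra hlt
      haveI : Q.LiesOver (Q.comap ι) := ⟨rfl⟩
      obtain ⟨Q', hQ'lt, hQ'prime, -⟩ := Ideal.exists_ideal_lt_liesOver_of_lt Q
        (lt_of_le_of_ne hJQ fun e => hlt e.ge)
      exact hQ'lt.not_ge (hQ.2 ⟨hQ'prime, bot_le⟩ hQ'lt.le)
    haveI := hmin.1.1
    rw [ringKrullDim_quotient_over K L S _ Q ⟨⟨hQ.1.1, Ideal.map_comap_le⟩, fun J hJ hJQ => hQ.2 ⟨hJ.1, bot_le⟩ hJQ⟩]
    exact hup _ hmin (hq ▸ Ideal.comap_mono hQq)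
  · refine hPdim.trans ?_
    obtain ⟨Q₁, hQ₁, hQ₁q⟩ := Ideal.exists_minimalPrimes_le
      (show P.map ι ≤ q'.asIdeal from Ideal.map_le_iff_le_comap.mpr (hq ▸ hPq))
    haveI := hP.1.1
    rw [← ringKrullDim_quotient_over K L S P Q₁ hQ₁]
    haveI := hQ₁.1.1
    obtain ⟨Q₂, hQ₂, hQ₂le⟩ := Ideal.exists_minimalPrimes_le (show (⊥ : Ideal (L ⊗[K] S)) ≤ Q₁ from bot_le)
    exact (ringKrullDim_le_of_surjective _ (Ideal.Quotient.factor_surjective hQ₂le)).trans
      (hup' Q₂ hQ₂ (hQ₂le.trans hQ₁q))

end Groth.Agent.LocalDimBC
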